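import Groth.Agent.Lib.Helper74.ModTrunc.ModHD
import Groth.Agent.Lib.Helper83.TruncTower
import Groth.Agent.Lib.Helper83.ModCoh
import Groth.Agent.Lib.Helper30.ModSiteFree
import Groth.Agent.S0943
import Groth.Agent.S0864
import Groth.Agent.S0880

/-!
# `E ∈ D(O)` is the derived limit of its truncations under local bounded vanishing (helper74)

Module version of helper83's `TruncTowerSite.isRlimVia_truncTower_site`.
Ingredients: `ModHD.injective_H0_app`, Milnor's sequence (`S0943.milnor`), the general
`TruncTower.tower_hyps`, and the comparison `Ext^k_O(freeOn O V, F) = 0` if `H^k(V, F_ab) = 0`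
(`subsingleton_ext_freeOn`, from helper83's `ModCoh.nonempty_ext_addEquiv`).
-/

set_option autoImplicit false
universe w u

namespace Groth.Agent.Lib.Helper74.ModTrunc

open CategoryTheory CategoryTheory.Limits Opposite DerivedCategory Abelian
open Groth.Agent.Lib.Helper83.SingleHom Groth.Agent.Lib.Helper74.ModQc
open Groth.Agent.Lib.Helper83.TruncTower Groth.Agent.Lib.Helper83.ModCech
open Groth.Agent.Lib.Helper83.ModCoh Groth.Agent.Lib.Helper30.ModSiteFree

variable {C : Type u} [SmallCategory C] {J : GrothendieckTopology C}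
  (O : Sheaf J CommRingCat.{u})

/-- the free sheaf of modules on `h_V` corepresents sections over `V` -/
noncomputable def LCorepresentableBy (V : C) :
    (secFunctor O V).CorepresentableBy ((L (ModSite.ringSh O)).obj (yoneda.obj V)) where
  homEquiv {F} := secEquiv (ModSite.ringSh O) F V
  homEquiv_comp {F F'} g h := by
    show yonedaEquiv (F := (Rt (ModSite.ringSh O)).obj F')
      ((adjL (ModSite.ringSh O)).homEquiv _ _ (h ≫ g)) = _
    rw [(adjL (ModSite.ringSh O)).homEquiv_naturality_right]
    rfl

/-- `L(h_V) ≅ freeOn O V` -/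
noncomputable def freeOnIso (V : C) :
    (L (ModSite.ringSh O)).obj (yoneda.obj V) ≅ ModSite.freeOn O V :=
  (LCorepresentableBy O V).uniqueUpToIso (freeOnCorepresentableBy O V)

variable {O}

/-- vanishing of `H^k(V, F_ab)` implies vanishing of `Ext^k_O(freeOn O V, F)` -/
lemma subsingleton_ext_freeOn [HasExt.{u} (ModSite.Mod O)] (F : ModSite.Mod O) (k : ℕ) (V : C)
    (h : Subsingleton (ModSite.HU O F k V)) :
    Subsingleton (Ext (ModSite.freeOn O V) F k) := by
  obtain ⟨e⟩ := nonempty_ext_addEquiv (ModSite.ringSh O) (yoneda.obj V) (fun I hI k => by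
    have := hI
    exact Groth.Agent.S0864.result _
      (Groth.Agent.Lib.Helper83.ModAcyclic.isTotallyAcyclic_toSheaf_of_injective
        (ModSite.ringSh O) I) V k) F k
  have h1 : Subsingleton (Ext ((LZ J).obj (yoneda.obj V))
      ((SheafOfModules.toSheaf (ModSite.ringSh O)).obj F) k) := h
  have h2 : Subsingleton (Ext ((L (ModSite.ringSh O)).obj (yoneda.obj V)) F k) :=
    e.injective.subsingleton
  exact ((extAddEquivOfIsoLeft (freeOnIso O V) F k).symm).injective.subsingleton

lemma isIso_of_bijective_on_cover {F G : ModSite.Mod O} (φ : F ⟶ G) (B : Set C)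
    (hB : ∀ U : C, ∃ (ι : Type u) (Y : ι → C) (f : ∀ i, Y i ⟶ U),
      Sieve.ofArrows Y f ∈ J U ∧ ∀ i, Y i ∈ B)
    (h : ∀ V ∈ B, Function.Bijective (secMap φ V)) : IsIso φ := by
  have : IsIso ((SheafOfModules.toSheaf (ModSite.ringSh O)).map φ) :=
    Groth.Agent.Lib.Helper83.TruncTower.isIso_of_bijective_on_cover _ B hB
      (fun V hV => h V hV)
  exact isIso_of_reflects_iso φ (SheafOfModules.toSheaf (ModSite.ringSh O))

lemma bijective_secMap_of_isIso {F G : ModSite.Mod O} (φ : F ⟶ G) [IsIso φ] (V : C) :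
    Function.Bijective (secMap φ V) := by
  rw [Function.bijective_iff_has_inverse]
  refine ⟨secMap (inv φ) V, fun x => ?_, fun x => ?_⟩
  · rw [← secMap_comp, IsIso.hom_inv_id, secMap_id]
  · rw [← secMap_comp, IsIso.inv_hom_id, secMap_id]

lemma bijective_of_comp {α β γ : Type*} (f : α → β) (g : β → γ) (h : Function.Bijective (g ∘ f))
    (hg : Function.Injective g) : Function.Bijective f := by
  refine ⟨fun x y hxy => h.1 (congrArg g hxy), fun y => ?_⟩
  obtain ⟨x, hx⟩ := h.2 (g y)
  exact ⟨x, hg hx⟩

/-- **`E` is the derived limit of its truncations** under local bounded vanishing of the cohomology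
of the cohomology modules (ringed site version). -/
theorem isRlimVia_truncTower_modSite [HasDerivedCategory.{w} (ModSite.Mod O)]
    (E : DerivedCategory (ModSite.Mod O)) [HasProduct (CohCx.truncTower E)] (B : Set C)
    (hB : ∀ U : C, ∃ (ι : Type u) (Y : ι → C) (f : ∀ i, Y i ⟶ U),
      Sieve.ofArrows Y f ∈ J U ∧ ∀ i, Y i ∈ B)
    (h : ∀ V ∈ B, ∀ m : ℤ, ∃ N : ℕ, -(N : ℤ) ≤ m ∧ ∀ T ∈ J V,
      ∃ (ι : Type u) (Y : ι → C) (f : ∀ i, Y i ⟶ V),
      (∀ i, T.arrows (f i)) ∧ Sieve.ofArrows Y f ∈ J V ∧
      ∀ (i : ι) (n : ℕ), N ≤ n → ∀ k : ℕ, (k : ℤ) = m + n + 1 →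
        Subsingleton (ModSite.HU O
          ((DerivedCategory.homologyFunctor (ModSite.Mod O) (m - k)).obj E) k (Y i))) :
    CohCx.IsRlimVia (CohCx.truncTower E) (CohCx.truncTowerMap E) E (CohCx.toTruncTower E) := by
  have hExt : HasExt.{u} (ModSite.Mod O) := hasExt_of_enoughInjectives _
  apply isRlimVia_truncTower E
  intro L a hL u hu m
  let A := ModSite.Mod O
  let sm := shiftFunctor (DerivedCategory A) m
  let σ := (DerivedCategory.homologyFunctor A 0).shiftIso m 0 m (by simp)
  refine (NatIso.isIso_map_iff σ u).1 ?_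
  show IsIso ((DerivedCategory.homologyFunctor A 0).map (sm.map u))
  apply isIso_of_bijective_on_cover _ B hB
  intro V hV
  obtain ⟨N, hNm, hN⟩ := h V hV m
  have hinj : Function.Injective
      (secMap ((DerivedCategory.homologyFunctor A 0).map (sm.map (a N))) V) := by
    apply injective_H0_app
    intro T hT
    obtain ⟨ι, Y, f, hfT, hcov, hvan⟩ := hN T hT
    refine ⟨ι, Y, f, hfT, hcov, fun i y hy => ?_⟩
    obtain ⟨hlim, hinj⟩ := tower_hyps (ModSite.freeOn O (Y i)) E m N
      (fun n hn k hk => subsingleton_ext_freeOn _ k (Y i) (hvan i n hn k hk))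
    refine (Groth.Agent.S0943.milnor
      ((DerivedCategory.singleFunctor A 0).obj (ModSite.freeOn O (Y i)))
      (CohCx.truncTower E) (CohCx.truncTowerMap E) L a hL m).2 hlim y (fun n => ?_)
    by_cases hn : N ≤ n
    · obtain ⟨k, rfl⟩ := Nat.exists_eq_add_of_le hn
      apply hinj k
      change (y ≫ sm.map (a (N + k))) ≫
          sm.map (CohCx.transition (CohCx.truncTower E) (CohCx.truncTowerMap E) N k) =
        (0 : _ ⟶ sm.obj (CohCx.truncTower E (N + k))) ≫
          sm.map (CohCx.transition (CohCx.truncTower E) (CohCx.truncTowerMap E) N k)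
      rw [Category.assoc, ← Functor.map_comp,
        Groth.Agent.S0880.a_transition (CohCx.truncTower E) (CohCx.truncTowerMap E) L a hL,
        Limits.zero_comp]
      exact hy
    · obtain ⟨k, rfl⟩ := Nat.exists_eq_add_of_le (Nat.le_of_not_le hn)
      rw [← Groth.Agent.S0880.a_transition (CohCx.truncTower E) (CohCx.truncTowerMap E) L a hL n k,
        Functor.map_comp, ← Category.assoc]
      change (y ≫ sm.map (a (n + k))) ≫ _ = 0
      rw [hy, Limits.zero_comp]
  have hcomp : (DerivedCategory.homologyFunctor A 0).map (sm.map u) ≫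
      (DerivedCategory.homologyFunctor A 0).map (sm.map (a N)) =
      (DerivedCategory.homologyFunctor A 0).map (sm.map (CohCx.toTruncTower E N)) := by
    rw [← Functor.map_comp, ← Functor.map_comp, hu]
  have hiso : IsIso ((DerivedCategory.homologyFunctor A 0).map
      (sm.map (CohCx.toTruncTower E N))) := by
    have h1 : IsIso ((DerivedCategory.homologyFunctor A m).map (CohCx.toTruncTower E N)) :=
      isIso_homology_toTruncTower E N m hNm
    exact (NatIso.isIso_map_iff σ (CohCx.toTruncTower E N)).2 h1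
  have hbij := bijective_secMap_of_isIso ((DerivedCategory.homologyFunctor A 0).map
      (sm.map (CohCx.toTruncTower E N))) V
  rw [← hcomp] at hbij
  exact bijective_of_comp _ _ hbij hinj

end Groth.Agent.Lib.Helper74.ModTrunc
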