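import Groth.Agent.Lib.Helper83.TruncTower
import Groth.Agent.Lib.Helper32.WayOut2
import Groth.Agent.S0943
import Groth.Agent.S0880

/-!
# Dévissage for `Hom(S[0], Z⟦m⟧)` when `Ext^k(S, -)` vanishes for `k > d` on a weak Serre class
(helper74)

General abelian category `A`, object `S`, weak Serre class `Pp`, `d : ℕ` with
`Ext^k(S, F) = 0` for `F ∈ Pp`, `k > d`.

* `hom_single_eq_zero_of_vanishing`: for `Z` bounded below with cohomology in `Pp` and
  `H^q(Z) = 0` for `q ∈ [m-d, m]`, every map `S[0] ⟶ Z⟦m⟧` is zero.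
* `bijective_postcomp`: for `f : X ⟶ Y` between bounded below objects with cohomology in `Pp`
  such that `H^q(f)` is an isomorphism for `q ∈ [m-1-d, m+1]`, composition with `f⟦m⟧` is bijective
  on maps out of `S[0]`.
* `exists_compatible`: lifting an element through a tower which is eventually surjective.
* `tower_inj`, `tower_surj`: for a tower `K_n` with eventually constant cohomology and a derived
  limit `L`: maps `S[0] ⟶ L⟦m⟧` are detected by / lift from `S[0] ⟶ K_n⟦m⟧` for `n` large.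
-/

set_option autoImplicit false
universe w w' u

namespace Groth.Agent.Lib.Helper74.ModTrunc.Dev

open CategoryTheory Limits Pretriangulated Opposite DerivedCategory DerivedCategory.TStructure
open Groth.Agent.Lib.Helper83.TruncTower Groth.Agent.Lib.Helper32.WayOut2

section Tower

/-- lifting through a tower of sets whose transition maps are surjective from stage `n` on -/
lemma exists_compatible : ∀ (n : ℕ) (G : ℕ → Type*) (τ : ∀ k, G (k + 1) → G k)
    (_ : ∀ k, n ≤ k → Function.Surjective (τ k)) (y : G n),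
    ∃ x : ∀ k, G k, (∀ k, τ k (x (k + 1)) = x k) ∧ x n = y := by
  intro n
  induction n with
  | zero =>
    intro G τ hτ y
    let x : ∀ k, G k := fun k => Nat.rec y (fun k xk => (hτ k (Nat.zero_le k) xk).choose) k
    refine ⟨x, fun k => ?_, rfl⟩
    exact (hτ k (Nat.zero_le k) (x k)).choose_spec
  | succ n ih =>
    intro G τ hτ y
    obtain ⟨x', hx', hx'n⟩ := ih (fun k => G (k + 1)) (fun k => τ (k + 1))
      (fun k hk => hτ (k + 1) (by omega)) y
    refine ⟨fun k => Nat.casesOn k (τ 0 (x' 0)) (fun k => x' k), fun k => ?_, hx'n⟩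
    cases k with
    | zero => rfl
    | succ k => exact hx' k

end Tower

variable {A : Type (u + 1)} [Category.{u} A] [Abelian A] [HasDerivedCategory.{w} A]
  [HasExt.{w'} A]

omit [HasDerivedCategory.{w} A] in
lemma subsingleton_ext_of_isZero (S F : A) (hF : IsZero F) (k : ℕ) :
    Subsingleton (Abelian.Ext.{w'} S F k) := by
  refine ⟨fun x y => ?_⟩
  have key : ∀ z : Abelian.Ext.{w'} S F k, z = 0 := by
    intro z
    have h1 : z = z.comp (Abelian.Ext.mk₀ (𝟙 F)) (add_zero k) :=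
      (Abelian.Ext.comp_mk₀_id z).symm
    rw [h1, hF.eq_of_src (𝟙 F) 0, Abelian.Ext.mk₀_zero, Abelian.Ext.comp_zero]
  rw [key x, key y]

variable (S : A) (Pp : ObjectProperty A) (d : ℕ)
  (hS : ∀ F, Pp F → ∀ k : ℕ, d < k → Subsingleton (Abelian.Ext.{w'} S F k))

include hS in
/-- vanishing of `Hom(S[0], Z⟦m⟧)` by dévissage -/
theorem hom_single_eq_zero_of_vanishing (Z : DerivedCategory A) (c : ℤ) (hZ : Z.IsGE c)
    (hP : ∀ q, Pp ((homologyFunctor A q).obj Z)) (m : ℤ)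
    (hz : ∀ q : ℤ, m - d ≤ q → q ≤ m → IsZero ((homologyFunctor A q).obj Z))
    (φ : (singleFunctor A 0).obj S ⟶ Z⟦m⟧) : φ = 0 := by
  have key : ∀ r : ℕ, ∀ φ : (singleFunctor A 0).obj S ⟶ ((t.truncGE (m + 1 - r)).obj Z)⟦m⟧,
      φ = 0 := by
    intro r
    induction r with
    | zero =>
      intro φ
      have h1 : ((singleFunctor A 0).obj S).IsLE 0 := inferInstance
      have h2 : (((t.truncGE (m + 1 - (0 : ℕ))).obj Z)⟦m⟧).IsGE 1 :=
        t.isGE_shift _ (m + 1 - (0 : ℕ)) m 1 (by push_cast; omega)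
      exact t.zero φ 0 1 (by omega)
    | succ r ih =>
      intro φ
      have hab : m + 1 - ((r + 1 : ℕ) : ℤ) + 1 = m + 1 - (r : ℤ) := by push_cast; omega
      refine trans_injective S Z (m + 1 - ((r + 1 : ℕ) : ℤ)) (m + 1 - (r : ℤ)) m hab ?_ φ (ih _)
      intro k hk
      have hkr : k = r := by push_cast at hk; omega
      subst hkr
      by_cases hkd : k ≤ d
      · exact subsingleton_ext_of_isZero S _
          (hz _ (by push_cast; omega) (by push_cast; omega)) k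
      · exact hS _ (hP _) k (by omega)
  obtain ⟨r, hr⟩ : ∃ r : ℕ, m + 1 - (r : ℤ) ≤ c := ⟨(m + 1 - c).toNat, by omega⟩
  have hZ' : Z.IsGE (m + 1 - (r : ℤ)) := t.isGE_of_ge Z _ c hr
  have hiso : IsIso ((t.truncGEπ (m + 1 - (r : ℤ))).app Z) :=
    (t.isGE_iff_isIso_truncGEπ_app _ Z).1 hZ'
  have h0 := key r (φ ≫ ((t.truncGEπ (m + 1 - (r : ℤ))).app Z)⟦m⟧')
  rw [← cancel_mono (((t.truncGEπ (m + 1 - (r : ℤ))).app Z)⟦m⟧'), h0, zero_comp]

include hS in
/-- composition with `f⟦m⟧` is bijective on maps out of `S[0]` when `H^q(f)` is an isomorphism for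
`q ∈ [m-1-d, m+1]` -/
theorem bijective_postcomp [WSerre.IsWeakSerre Pp] {X Y : DerivedCategory A} (f : X ⟶ Y) (c : ℤ)
    (hX : X.IsGE c) (hY : Y.IsGE c) (hPX : WSerre.cohIn Pp X) (hPY : WSerre.cohIn Pp Y) (m : ℤ)
    (hf : ∀ q : ℤ, m - 1 - d ≤ q → q ≤ m + 1 → IsIso ((homologyFunctor A q).map f)) :
    Function.Bijective (fun φ : (singleFunctor A 0).obj S ⟶ X⟦m⟧ => φ ≫ f⟦m⟧') := by
  obtain ⟨Z, g, h, hT⟩ := distinguished_cocone_triangle f
  have hZge : Z.IsGE (c - 1) := by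
    have h1 : Y.IsGE (c - 1) := t.isGE_of_ge Y (c - 1) c (by omega)
    have h3 : (X⟦(1 : ℤ)⟧).IsGE (c - 1) := t.isGE_shift X c 1 (c - 1) (by omega)
    exact t.isGE₂ _ (rot_of_distTriang _ hT) (c - 1) h1 h3
  have hZP : WSerre.cohIn Pp Z :=
    cohIn_ext₂ Pp _ (rot_of_distTriang _ hT) hPY (cohIn_shift Pp 1 hPX)
  have hZz : ∀ q : ℤ, m - 1 - d ≤ q → q ≤ m → IsZero ((homologyFunctor A q).obj Z) := by
    intro q h1 h2
    have e1 : IsIso ((homologyFunctor A q).map f) := hf q h1 (by omega)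
    have e2 : IsIso ((homologyFunctor A (q + 1)).map f) := hf (q + 1) (by omega) (by omega)
    have z1 : (homologyFunctor A q).map g = 0 :=
      ((homologyFunctor A 0).homologySequence_epi_shift_map_mor₁_iff _ hT q).1
        (inferInstanceAs (Epi ((homologyFunctor A q).map f)))
    have z2 : (homologyFunctor A 0).homologySequenceδ (Triangle.mk f g h) q (q + 1) rfl = 0 :=
      ((homologyFunctor A 0).homologySequence_mono_shift_map_mor₁_iff _ hT q (q + 1) rfl).1
        (inferInstanceAs (Mono ((homologyFunctor A (q + 1)).map f)))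
    exact ((homologyFunctor A 0).homologySequence_exact₃ _ hT q (q + 1) rfl).isZero_of_both_zeros
      z1 z2
  have v1 : ∀ φ : (singleFunctor A 0).obj S ⟶ Z⟦m⟧, φ = 0 :=
    hom_single_eq_zero_of_vanishing S Pp d hS Z (c - 1) hZge hZP m
      (fun q h1 h2 => hZz q (by omega) h2)
  have v2 : ∀ φ : (singleFunctor A 0).obj S ⟶ Z⟦m - 1⟧, φ = 0 :=
    hom_single_eq_zero_of_vanishing S Pp d hS Z (c - 1) hZge hZP (m - 1)
      (fun q h1 h2 => hZz q (by omega) (by omega))
  constructor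
  · intro φ₁ φ₂ h12
    have h0 : (φ₁ - φ₂) ≫ f⟦m⟧' = 0 := by
      rw [Preadditive.sub_comp]
      exact sub_eq_zero.2 h12
    obtain ⟨y, hy⟩ := exact₂_shift _ (inv_rot_of_distTriang _ hT) m (φ₁ - φ₂) h0
    let iso : ((Z⟦(-1 : ℤ)⟧)⟦m⟧) ≅ Z⟦m - 1⟧ :=
      ((shiftFunctorAdd' (DerivedCategory A) (-1) m (m - 1) (by omega)).app Z).symm
    have aux : ∀ y' : (singleFunctor A 0).obj S ⟶ (Z⟦(-1 : ℤ)⟧)⟦m⟧, y' = 0 := by
      intro y'
      rw [← cancel_mono iso.hom, zero_comp]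
      exact v2 _
    have hy0 : y = 0 := aux y
    rw [hy0, zero_comp] at hy
    exact sub_eq_zero.1 hy.symm
  · intro ψ
    obtain ⟨φ, hφ⟩ := exact₂_shift _ hT m ψ (v1 _)
    exact ⟨φ, hφ⟩

section TowerD

variable [WSerre.IsWeakSerre Pp] (K : ℕ → DerivedCategory A) (tr : ∀ n, K (n + 1) ⟶ K n)
  (hK : ∀ n, WSerre.cohIn Pp (K n) ∧ ∃ c : ℤ, (K n).IsGE c)

include hS hK in
lemma bijective_tr (m : ℤ) (n : ℕ)
    (hn : ∀ q : ℤ, m - 1 - d ≤ q → q ≤ m + 1 → IsIso ((homologyFunctor A q).map (tr n))) :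
    Function.Bijective
      (fun φ : (singleFunctor A 0).obj S ⟶ (K (n + 1))⟦m⟧ => φ ≫ (tr n)⟦m⟧') := by
  obtain ⟨c₁, hc₁⟩ := (hK (n + 1)).2
  obtain ⟨c₀, hc₀⟩ := (hK n).2
  have h1 : (K (n + 1)).IsGE (min c₁ c₀) := t.isGE_of_ge _ _ c₁ (min_le_left _ _)
  have h0 : (K n).IsGE (min c₁ c₀) := t.isGE_of_ge _ _ c₀ (min_le_right _ _)
  exact bijective_postcomp S Pp d hS (tr n) (min c₁ c₀) h1 h0 (hK (n + 1)).1 (hK n).1 m hn

variable [HasProduct K] (L : DerivedCategory A) (a : ∀ n, L ⟶ K n)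
  (hL : CohCx.IsRlimVia K tr L a)

include hS hK hL in
/-- maps `S[0] ⟶ L⟦m⟧` into the derived limit are detected on `K_n` for `n ≥ N` -/
theorem tower_inj (m : ℤ) (N : ℕ)
    (hN : ∀ n, N ≤ n → ∀ q : ℤ, m - 2 - d ≤ q → q ≤ m + 1 →
      IsIso ((homologyFunctor A q).map (tr n)))
    (n : ℕ) (hn : N ≤ n) (y : (singleFunctor A 0).obj S ⟶ L⟦m⟧) (hy : y ≫ (a n)⟦m⟧' = 0) :
    y = 0 := by
  have hlim : CohCx.LimOneIsZero
      (fun n => (singleFunctor A 0).obj S ⟶ (K n)⟦m - 1⟧)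
      (fun n => Preadditive.rightComp _ ((shiftFunctor (DerivedCategory A) (m - 1)).map (tr n))) := by
    apply limOneIsZero_of_eventually_surjective N
    intro n' hn'
    exact (bijective_tr S Pp d hS K tr hK (m - 1) n'
      (fun q h1 h2 => hN n' hn' q (by omega) (by omega))).2
  refine (Groth.Agent.S0943.milnor ((singleFunctor A 0).obj S) K tr L a hL m).2 hlim y
    (fun n' => ?_)
  by_cases hnn : n ≤ n'
  · obtain ⟨k, rfl⟩ := Nat.exists_eq_add_of_le hnn
    refine transition_injective K tr _ m n (fun n'' hn'' φ hφ => ?_) k _ ?_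
    · have hb := (bijective_tr S Pp d hS K tr hK m n''
        (fun q h1 h2 => hN n'' (by omega) q (by omega) h2)).1
      exact hb (hφ.trans (zero_comp).symm)
    · rw [Category.assoc, ← Functor.map_comp,
        Groth.Agent.S0880.a_transition K tr L a hL]
      exact hy
  · obtain ⟨k, rfl⟩ := Nat.exists_eq_add_of_le (Nat.le_of_not_le hnn)
    rw [← Groth.Agent.S0880.a_transition K tr L a hL n' k, Functor.map_comp, ← Category.assoc,
      hy, zero_comp]

include hS hK hL in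
/-- maps `S[0] ⟶ K_n⟦m⟧` lift to the derived limit for `n ≥ N` -/
theorem tower_surj (m : ℤ) (N : ℕ)
    (hN : ∀ n, N ≤ n → ∀ q : ℤ, m - 1 - d ≤ q → q ≤ m + 1 →
      IsIso ((homologyFunctor A q).map (tr n)))
    (n : ℕ) (hn : N ≤ n) (z : (singleFunctor A 0).obj S ⟶ (K n)⟦m⟧) :
    ∃ y : (singleFunctor A 0).obj S ⟶ L⟦m⟧, y ≫ (a n)⟦m⟧' = z := by
  obtain ⟨x, hx, hxn⟩ := exists_compatible n
    (fun k => (singleFunctor A 0).obj S ⟶ (K k)⟦m⟧) (fun k φ => φ ≫ (tr k)⟦m⟧')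
    (fun k hk => (bijective_tr S Pp d hS K tr hK m k
      (fun q h1 h2 => hN k (by omega) q h1 h2)).2) z
  obtain ⟨y, hy⟩ := (Groth.Agent.S0943.milnor ((singleFunctor A 0).obj S) K tr L a hL m).1 x hx
  exact ⟨y, (hy n).trans hxn⟩

end TowerD

end Groth.Agent.Lib.Helper74.ModTrunc.Dev
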