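import Mathlib
import Groth.Agent.Lib.Helper32.KInjRes
import Groth.Agent.Lib.Helper83.SingleHom
import Groth.Agent.Lib.Helper74.ModQc.FreeOnMap
import Groth.Agent.S0484

/-!
# Sections of cohomology sheaves of objects of `D(O)` via maps out of `freeOn O U` (helper74)

Module version of helper83's `SheafHD` / `SheafHDInj`: for `M` in the derived category of
`O`-modules on a small ringed site, sections of `H^0(M)` are locally represented by maps
`freeOn O U [0] ⟶ M` (`locally_surj`), a map inducing the zero section is locally zero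
(`locally_zero`), and the injectivity criterion `injective_H0_app`.
-/

set_option autoImplicit false
universe w u

namespace Groth.Agent.Lib.Helper74.ModTrunc

open CategoryTheory CategoryTheory.Limits Opposite DerivedCategory
open Groth.Agent.Lib.Helper83.SingleHom Groth.Agent.Lib.Helper74.ModQc

variable {C : Type u} [SmallCategory C] {J : GrothendieckTopology C}
  {O : Sheaf J CommRingCat.{u}}

lemma map_comp_apply (M : ModSite.Mod O) {U V W : C} (f : V ⟶ U) (g : W ⟶ V)
    (x : M.val.obj (op U)) :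
    M.val.map (g ≫ f).op x = M.val.map g.op (M.val.map f.op x) := by
  rw [op_comp, PresheafOfModules.map_comp]
  rfl

/-- a section vanishing on a covering sieve vanishes -/
lemma eq_zero_of_cover (M : ModSite.Mod O) {V : C} (S : Sieve V) (hS : S ∈ J V)
    (x : M.val.obj (op V))
    (h : ∀ ⦃W : C⦄ (g : W ⟶ V), S g → M.val.map g.op x = 0) : x = 0 := by
  have hsep : Presieve.IsSeparated J (M.val.presheaf ⋙ forget Ab) := by
    apply Presieve.IsSheaf.isSeparated
    rw [← isSheaf_iff_isSheaf_of_type]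
    exact ((sheafCompose J (forget Ab)).obj ⟨M.val.presheaf, M.isSheaf⟩).2
  refine (hsep _ hS).ext (fun Y f hf => ?_)
  change M.val.map f.op x = M.val.map f.op 0
  rw [h f hf, map_zero]

lemma toSec_zero {U : C} {M : ModSite.Mod O} :
    toSec O (0 : ModSite.freeOn O U ⟶ M) = 0 := by
  have h := toSec_comp (O := O) (𝟙 (ModSite.freeOn O U)) (0 : ModSite.freeOn O U ⟶ M)
  rw [comp_zero] at h
  rw [h, secMap_zero]

lemma freeOnMap_comp {W' W V : C} (g' : W' ⟶ W) (g : W ⟶ V) :
    freeOnMap O (g' ≫ g) = freeOnMap O g' ≫ freeOnMap O g := by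
  apply toSec_injective
  have h1 := toSec_freeOnMap_comp (O := O) (g' ≫ g) (𝟙 (ModSite.freeOn O V))
  have h2 := toSec_freeOnMap_comp (O := O) g' (freeOnMap O g)
  have h3 := toSec_freeOnMap_comp (O := O) g (𝟙 (ModSite.freeOn O V))
  rw [Category.comp_id] at h1 h3
  rw [h1, h2, h3, map_comp_apply]

/-- local lifting of maps out of `freeOn` along epimorphisms of modules -/
lemma local_lift {X Y : ModSite.Mod O} (p : X ⟶ Y) [Epi p] {U : C}
    (ψ : ModSite.freeOn O U ⟶ Y) :
    ∃ R ∈ J U, ∀ {V : C} (h : V ⟶ U), R h →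
      ∃ t : ModSite.freeOn O V ⟶ X, t ≫ p = freeOnMap O h ≫ ψ := by
  obtain ⟨S, hS, hlift⟩ := exists_cover_lift p (toSec O ψ)
  refine ⟨S, hS, fun {V} h hh => ?_⟩
  obtain ⟨t, ht⟩ := hlift h hh
  refine ⟨ofSec O t, ?_⟩
  apply toSec_injective
  rw [toSec_comp, toSec_ofSec, ht, toSec_freeOnMap_comp]

section General

variable [HasDerivedCategory.{w} (ModSite.Mod O)]

section KInj

variable {M : DerivedCategory (ModSite.Mod O)}
  {L : CochainComplex (ModSite.Mod O) ℤ} [L.IsKInjective] (eL : M ≅ Q.obj L)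

include eL

lemma locally_zero {U : C}
    (φ : (DerivedCategory.singleFunctor (ModSite.Mod O) 0).obj (ModSite.freeOn O U) ⟶ M)
    (hφ : h0 φ = 0) :
    ∃ R ∈ J U, ∀ {V : C} (h : V ⟶ U), R h →
      (DerivedCategory.singleFunctor (ModSite.Mod O) 0).map (freeOnMap O h) ≫ φ = 0 := by
  obtain ⟨f, hf⟩ := exists_qm_eq (φ ≫ eL.hom)
  have h1 : zOf f ≫ L.homologyπ 0 = 0 := by
    have h2 : h0 (qm f) = 0 := by rw [hf, h0_postcomp, hφ, zero_comp]
    rw [h0_qm, ← Category.assoc] at h2
    have h3 := h2 =≫ (hF L).hom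
    simpa using h3
  let κ : ModSite.freeOn O U ⟶ kernel (L.homologyπ 0) := kernel.lift (L.homologyπ 0) (zOf f) h1
  let p : L.X (-1) ⟶ kernel (L.homologyπ 0) :=
    kernel.lift _ (L.toCycles (-1) 0) (L.toCycles_comp_homologyπ (-1) 0)
  have hp : Epi p :=
    (ShortComplex.exact_of_g_is_cokernel
      (ShortComplex.mk _ _ (L.toCycles_comp_homologyπ (-1) 0))
      (L.homologyIsCokernel (-1) 0 (by simp))).epi_kernelLift
  obtain ⟨R, hR, hlift⟩ := local_lift p κ
  refine ⟨R, hR, fun {V} h hh => ?_⟩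
  obtain ⟨g, hg⟩ := hlift h hh
  have hz : g ≫ L.toCycles (-1) 0 =
      zOf ((HomologicalComplex.single _ (ComplexShape.up ℤ) 0).map (freeOnMap O h) ≫ f) := by
    rw [zOf_precomp]
    have h4 := hg =≫ kernel.ι _
    simpa [p, κ] using h4
  have h5 := qm_eq_zero _ g hz
  have h6 : ((DerivedCategory.singleFunctor (ModSite.Mod O) 0).map (freeOnMap O h) ≫ φ) ≫
      eL.hom = 0 := by
    rw [Category.assoc, ← hf, qm_precomp]
    exact h5
  exact (cancel_mono eL.hom).1 (by rw [h6, zero_comp])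

omit [L.IsKInjective] in
lemma locally_surj {U : C}
    (ψ : ModSite.freeOn O U ⟶ (DerivedCategory.homologyFunctor (ModSite.Mod O) 0).obj M) :
    ∃ R ∈ J U, ∀ {V : C} (h : V ⟶ U), R h →
      ∃ φ : (DerivedCategory.singleFunctor (ModSite.Mod O) 0).obj (ModSite.freeOn O V) ⟶ M,
        h0 φ = freeOnMap O h ≫ ψ := by
  obtain ⟨R, hR, hlift⟩ := local_lift (L.homologyπ 0)
    (ψ ≫ (DerivedCategory.homologyFunctor _ 0).map eL.hom ≫ (hF L).hom)
  refine ⟨R, hR, fun {V} h hh => ?_⟩
  obtain ⟨z, hz⟩ := hlift h hh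
  obtain ⟨f, rfl⟩ := exists_zOf_eq z
  refine ⟨qm f ≫ eL.inv, ?_⟩
  rw [h0_postcomp, h0_qm, ← Category.assoc (zOf f), hz]
  have e1 : (DerivedCategory.homologyFunctor (ModSite.Mod O) 0).map eL.hom ≫
      (DerivedCategory.homologyFunctor (ModSite.Mod O) 0).map eL.inv = 𝟙 _ := by
    rw [← Functor.map_comp, Iso.hom_inv_id, CategoryTheory.Functor.map_id]
  simp only [Category.assoc, Iso.hom_inv_id]
  erw [Category.id_comp, e1, Category.comp_id]

end KInj

lemma exists_kInjective (M : DerivedCategory (ModSite.Mod O)) :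
    ∃ (L : CochainComplex (ModSite.Mod O) ℤ), L.IsKInjective ∧ Nonempty (M ≅ Q.obj L) := by
  have : IsGrothendieckAbelian.{u} (ModSite.Mod O) :=
    Groth.Agent.S0484.result J (ModSite.ringSh O)
  obtain ⟨I, f, hI, hf, -, -⟩ :=
    Groth.Agent.Lib.Helper32.KInjRes.exists_kInjective_resolution (Q.objPreimage M)
  exact ⟨I, hI, ⟨(Q.objObjPreimageIso M).symm ≪≫ asIso (Q.map f)⟩⟩

/-- Let `b : M ⟶ N` in `D(O)` and `V` an object such that every covering sieve of `V` contains a
covering family `Y i → V` on which `b ∘ -` is injective on maps `freeOn O (Y i) [0] ⟶ M`. Then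
`H^0(b)` is injective on sections over `V`. -/
theorem injective_H0_app {M N : DerivedCategory (ModSite.Mod O)} (b : M ⟶ N) (V : C)
    (h : ∀ T ∈ J V, ∃ (ι : Type u) (Y : ι → C) (f : ∀ i, Y i ⟶ V), (∀ i, T.arrows (f i)) ∧
      Sieve.ofArrows Y f ∈ J V ∧ ∀ i,
        ∀ y : (DerivedCategory.singleFunctor (ModSite.Mod O) 0).obj (ModSite.freeOn O (Y i)) ⟶ M,
          y ≫ b = 0 → y = 0) :
    Function.Injective
      (secMap ((DerivedCategory.homologyFunctor (ModSite.Mod O) 0).map b) V) := by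
  obtain ⟨LM, hLM, ⟨eM⟩⟩ := exists_kInjective M
  obtain ⟨LN, hLN, ⟨eN⟩⟩ := exists_kInjective N
  set FM := (DerivedCategory.homologyFunctor (ModSite.Mod O) 0).obj M with hFM
  set FN := (DerivedCategory.homologyFunctor (ModSite.Mod O) 0).obj N with hFN
  set Hb := (DerivedCategory.homologyFunctor (ModSite.Mod O) 0).map b with hHb
  rw [injective_iff_map_eq_zero]
  intro s hs
  set ψ : ModSite.freeOn O V ⟶ FM := ofSec O s with hψ
  have hψb : ψ ≫ Hb = 0 := by
    apply toSec_injective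
    rw [toSec_comp, hψ, toSec_ofSec, toSec_zero]
    exact hs
  obtain ⟨R, hR, hR'⟩ := locally_surj eM ψ
  have key : ∀ {W : C} (g : W ⟶ V), R g → ∃ R' ∈ J W, ∀ {W' : C} (g' : W' ⟶ W), R' g' →
      ∃ y : (DerivedCategory.singleFunctor (ModSite.Mod O) 0).obj (ModSite.freeOn O W') ⟶ M,
        h0 y = freeOnMap O (g' ≫ g) ≫ ψ ∧ y ≫ b = 0 := by
    intro W g hg
    obtain ⟨y, hy⟩ := hR' g hg
    have hz : h0 (y ≫ b) = 0 := by
      rw [h0_postcomp, hy, Category.assoc]
      erw [hψb]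
      rw [comp_zero]
    obtain ⟨R', hR', hR''⟩ := locally_zero eN (y ≫ b) hz
    refine ⟨R', hR', fun {W'} g' hg' =>
      ⟨(DerivedCategory.singleFunctor _ 0).map (freeOnMap O g') ≫ y, ?_, ?_⟩⟩
    · rw [h0_precomp, hy, ← Category.assoc, freeOnMap_comp]
    · rw [Category.assoc]
      exact hR'' g' hg'
  let T : Sieve V := Sieve.bind R.arrows (fun W g hg => (key g hg).choose)
  have hT : T ∈ J V := J.bind_covering hR (fun W g hg => (key g hg).choose_spec.1)
  obtain ⟨ι, Y, f, hfT, hcov, hinj⟩ := h T hT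
  have hres : ∀ i, freeOnMap O (f i) ≫ ψ = 0 := by
    intro i
    obtain ⟨W, g', g, hg, hg', hfi⟩ := hfT i
    obtain ⟨y, hy1, hy2⟩ := (key g hg).choose_spec.2 g' hg'
    rw [hfi] at hy1
    rw [← hy1, hinj i y hy2, h0_zero]
  refine eq_zero_of_cover FM _ hcov s ?_
  rintro W _ ⟨Z, a, _, ⟨i⟩, rfl⟩
  rw [map_comp_apply]
  have h1 : FM.val.map (f i).op s = 0 := by
    have h2 := toSec_freeOnMap_comp (O := O) (f i) ψ
    rw [hres i, toSec_zero, hψ, toSec_ofSec] at h2
    exact h2.symm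
  rw [h1]
  exact (FM.val.map a.op).hom.map_zero

end General

end Groth.Agent.Lib.Helper74.ModTrunc
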