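import Groth.Agent.Lib.Helper74.ModTrunc.ModTower
import Groth.Agent.Lib.Helper74.ModTrunc.Devissage

/-!
# Cohomology modules of a derived limit of a tower with eventually constant cohomology (helper74)

* `isIso_of_locally`: a morphism of sheaves of modules which is injective on sections and locally
  surjective is an isomorphism.
* `isIso_homology_of_local`: criterion for `H^m(L) ⟶ H^m(K_n)` to be an isomorphism for a derived
  limit `L` of a tower `K_n` in `D(O)`, in terms of maps out of `freeOn O W [0]` for `W` running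
  through cofinal systems of coverings.
-/

set_option autoImplicit false
universe w u

namespace Groth.Agent.Lib.Helper74.ModTrunc

open CategoryTheory CategoryTheory.Limits Opposite DerivedCategory
open Groth.Agent.Lib.Helper83.SingleHom Groth.Agent.Lib.Helper74.ModQc

variable {C : Type u} [SmallCategory C] {J : GrothendieckTopology C}
  {O : Sheaf J CommRingCat.{u}}

lemma isIso_of_locally {F G : ModSite.Mod O} (φ : F ⟶ G)
    (hinj : ∀ U : C, Function.Injective (secMap φ U))
    (hsurj : ∀ (U : C) (s : G.val.obj (op U)), ∃ S ∈ J U, ∀ ⦃W : C⦄ (g : W ⟶ U), S g →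
      ∃ x : F.val.obj (op W), secMap φ W x = G.val.map g.op s) : IsIso φ := by
  have : IsIso ((SheafOfModules.toSheaf (ModSite.ringSh O)).map φ) := by
    rw [← Sheaf.isLocallyBijective_iff_isIso ((SheafOfModules.toSheaf (ModSite.ringSh O)).map φ)]
    constructor
    · constructor
      intro X x y hxy
      have hxy' : x = y := hinj X.unop hxy
      subst hxy'
      refine J.superset_covering ?_ (J.top_mem _)
      intro Z g _
      rfl
    · constructor
      intro U s
      obtain ⟨S, hS, h⟩ := hsurj U s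
      refine J.superset_covering ?_ hS
      intro W g hg
      obtain ⟨x, hx⟩ := h g hg
      exact ⟨x, hx⟩
  exact isIso_of_reflects_iso φ (SheafOfModules.toSheaf (ModSite.ringSh O))

variable [HasDerivedCategory.{w} (ModSite.Mod O)]

/-- **Local criterion** for `H^m(a n) : H^m(L) ⟶ H^m(K n)` to be an isomorphism, `L` a derived limit
of the tower `K`. -/
theorem isIso_homology_of_local (B : Set C)
    (hB : ∀ U : C, ∃ (ι : Type u) (Y : ι → C) (f : ∀ i, Y i ⟶ U),
      Sieve.ofArrows Y f ∈ J U ∧ ∀ i, Y i ∈ B)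
    (K : ℕ → DerivedCategory (ModSite.Mod O)) (tr : ∀ n, K (n + 1) ⟶ K n) [HasProduct K]
    (L : DerivedCategory (ModSite.Mod O)) (a : ∀ n, L ⟶ K n) (hL : CohCx.IsRlimVia K tr L a)
    (m : ℤ) (n : ℕ)
    (h1 : ∀ n', n ≤ n' → IsIso ((DerivedCategory.homologyFunctor (ModSite.Mod O) m).map (tr n')))
    (h2 : ∀ V ∈ B, ∃ N : ℕ, ∀ T ∈ J V, ∃ (ι : Type u) (Y : ι → C) (f : ∀ i, Y i ⟶ V),
      (∀ i, T.arrows (f i)) ∧ Sieve.ofArrows Y f ∈ J V ∧ ∀ i, ∀ n', N ≤ n' →
        (∀ y : (DerivedCategory.singleFunctor (ModSite.Mod O) 0).obj (ModSite.freeOn O (Y i)) ⟶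
            L⟦m⟧, y ≫ (a n')⟦m⟧' = 0 → y = 0) ∧
        (∀ z : (DerivedCategory.singleFunctor (ModSite.Mod O) 0).obj (ModSite.freeOn O (Y i)) ⟶
            (K n')⟦m⟧, ∃ y : (DerivedCategory.singleFunctor (ModSite.Mod O) 0).obj
              (ModSite.freeOn O (Y i)) ⟶ L⟦m⟧, y ≫ (a n')⟦m⟧' = z)) :
    IsIso ((DerivedCategory.homologyFunctor (ModSite.Mod O) m).map (a n)) := by
  let A := ModSite.Mod O
  let sm := shiftFunctor (DerivedCategory A) m
  let H0 := DerivedCategory.homologyFunctor A 0
  let σ := H0.shiftIso m 0 m (by simp)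
  refine (NatIso.isIso_map_iff σ (a n)).1 ?_
  show IsIso (H0.map (sm.map (a n)))
  have htr : ∀ k, IsIso (H0.map (sm.map (CohCx.transition K tr n k))) := by
    intro k
    induction k with
    | zero =>
      change IsIso (H0.map (sm.map (𝟙 (K n))))
      rw [CategoryTheory.Functor.map_id, CategoryTheory.Functor.map_id]
      infer_instance
    | succ k ih =>
      change IsIso (H0.map (sm.map (tr (n + k) ≫ CohCx.transition K tr n k)))
      rw [Functor.map_comp, Functor.map_comp]
      have : IsIso (H0.map (sm.map (tr (n + k)))) :=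
        (NatIso.isIso_map_iff σ (tr (n + k))).2 (h1 (n + k) (by omega))
      infer_instance
  have hfac : ∀ k, H0.map (sm.map (a (n + k))) ≫ H0.map (sm.map (CohCx.transition K tr n k)) =
      H0.map (sm.map (a n)) := by
    intro k
    rw [← Functor.map_comp, ← Functor.map_comp, Groth.Agent.S0880.a_transition K tr L a hL]
  have hinjN : ∀ V ∈ B, ∃ N : ℕ,
      Function.Injective (secMap (H0.map (sm.map (a (n + N)))) V) := by
    intro V hV
    obtain ⟨N, hN⟩ := h2 V hV
    refine ⟨N, ?_⟩
    apply injective_H0_app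
    intro T hT
    obtain ⟨ι', Y', f', hfT, hcov', hprop⟩ := hN T hT
    exact ⟨ι', Y', f', hfT, hcov', fun j y hy => (hprop j (n + N) (by omega)).1 y hy⟩
  apply isIso_of_locally
  · intro U
    rw [injective_iff_map_eq_zero]
    intro x hx
    obtain ⟨ι, YU, f, hcov, hYB⟩ := hB U
    refine eq_zero_of_cover _ _ hcov x ?_
    intro W g hg
    obtain ⟨Z, c, e, he, hce⟩ := hg
    obtain ⟨i⟩ := he
    subst hce
    rw [map_comp_apply]
    have hxi : (H0.obj (sm.obj L)).val.map (f i).op x = 0 := by
      obtain ⟨N, hinj⟩ := hinjN (YU i) (hYB i)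
      have hb := (bijective_secMap_of_isIso
        (H0.map (sm.map (CohCx.transition K tr n N))) (YU i)).1
      have e3 : secMap (H0.map (sm.map (CohCx.transition K tr n N))) (YU i)
          (secMap (H0.map (sm.map (a (n + N)))) (YU i)
            ((H0.obj (sm.obj L)).val.map (f i).op x)) = 0 := by
        rw [← secMap_comp, hfac N, ← secMap_map, hx]
        exact ((H0.obj (sm.obj (K n))).val.map (f i).op).hom.map_zero
      have e4 : secMap (H0.map (sm.map (a (n + N)))) (YU i)
          ((H0.obj (sm.obj L)).val.map (f i).op x) = 0 :=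
        hb (e3.trans (map_zero _).symm)
      exact hinj (e4.trans (map_zero _).symm)
    rw [hxi]
    exact ((H0.obj (sm.obj L)).val.map c.op).hom.map_zero
  · intro U s
    obtain ⟨ι, YU, f, hcov, hYB⟩ := hB U
    let Im : Sieve U :=
      { arrows := fun W g => ∃ x : (H0.obj (sm.obj L)).val.obj (op W),
          secMap (H0.map (sm.map (a n))) W x = (H0.obj (sm.obj (K n))).val.map g.op s
        downward_closed := by
          rintro W W' g ⟨x, hx⟩ e
          refine ⟨(H0.obj (sm.obj L)).val.map e.op x, ?_⟩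
          rw [← secMap_map, hx, map_comp_apply] }
    refine ⟨Im, ?_, fun W g hg => hg⟩
    refine J.transitive hcov Im ?_
    intro W g hg
    obtain ⟨Z, c, e, he, hce⟩ := hg
    obtain ⟨i⟩ := he
    subst hce
    have hi : Im.pullback (f i) ∈ J (YU i) := by
      obtain ⟨N, hN⟩ := h2 (YU i) (hYB i)
      have hτ : IsIso (H0.map (sm.map (CohCx.transition K tr n N))) := htr N
      let s' := secMap (inv (H0.map (sm.map (CohCx.transition K tr n N)))) (YU i)
        ((H0.obj (sm.obj (K n))).val.map (f i).op s)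
      have hs' : secMap (H0.map (sm.map (CohCx.transition K tr n N))) (YU i) s' =
          (H0.obj (sm.obj (K n))).val.map (f i).op s := by
        rw [← secMap_comp, IsIso.inv_hom_id, secMap_id]
      obtain ⟨LK, hLK, ⟨eK⟩⟩ := exists_kInjective (sm.obj (K (n + N)))
      obtain ⟨R, hR, hR'⟩ := locally_surj eK (ofSec O s')
      obtain ⟨ι', Y', f', hfT, hcov', hprop⟩ := hN R hR
      refine J.superset_covering ?_ hcov'
      intro W' e he
      obtain ⟨Z', c', e', he', hce⟩ := he
      obtain ⟨j⟩ := he'
      subst hce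
      obtain ⟨z, hz⟩ := hR' (f' j) (hfT j)
      obtain ⟨y, hy⟩ := (hprop j (n + N) (by omega)).2 z
      have e1 : secMap (H0.map (sm.map (a (n + N)))) (Y' j) (toSec O (h0 y)) =
          (H0.obj (sm.obj (K (n + N)))).val.map (f' j).op s' := by
        rw [← toSec_comp, ← h0_postcomp, hy, hz, toSec_freeOnMap_comp, toSec_ofSec]
      have e2 : secMap (H0.map (sm.map (a n))) (Y' j) (toSec O (h0 y)) =
          (H0.obj (sm.obj (K n))).val.map (f' j ≫ f i).op s := by
        rw [← hfac N, secMap_comp, e1, ← secMap_map, hs', map_comp_apply]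
      refine ⟨(H0.obj (sm.obj L)).val.map c'.op (toSec O (h0 y)), ?_⟩
      rw [← secMap_map, e2, ← map_comp_apply, Category.assoc]
    have h3 := J.pullback_stable c hi
    rwa [← Sieve.pullback_comp] at h3

end Groth.Agent.Lib.Helper74.ModTrunc
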