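import Mathlib
import Groth.Prelude.Def_CohCx

/-!
# Triangulated functors preserving countable products preserve derived limits (helper74)

`isRlimVia_map`: if `G` is a triangulated functor preserving the product of the `K n` and `L` is a
derived limit of the tower `(K n, t n)` through `a n`, then `G L` is a derived limit of
`(G (K n), G (t n))` through `G (a n)`.  In particular for right adjoints (`isRlimVia_map_of_adj`).
-/

set_option autoImplicit false

namespace Groth.Agent.Lib.Helper74.ModTrunc.RlimFunctor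

open CategoryTheory Limits Pretriangulated

variable {T T' : Type*} [Category T] [Category T'] [Preadditive T] [Preadditive T']
  [HasZeroObject T] [HasZeroObject T'] [HasShift T ℤ] [HasShift T' ℤ]
  [∀ n : ℤ, (shiftFunctor T n).Additive] [∀ n : ℤ, (shiftFunctor T' n).Additive]
  [Pretriangulated T] [Pretriangulated T']
  (G : T ⥤ T') [G.CommShift ℤ] [G.IsTriangulated]

theorem isRlimVia_map (K : ℕ → T) (t : ∀ n, K (n + 1) ⟶ K n) [HasProduct K]
    [HasProduct (fun n => G.obj (K n))] [PreservesLimit (Discrete.functor K) G]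
    (L : T) (a : ∀ n, L ⟶ K n) (hL : CohCx.IsRlimVia K t L a) :
    CohCx.IsRlimVia (fun n => G.obj (K n)) (fun n => G.map (t n)) (G.obj L)
      (fun n => G.map (a n)) := by
  obtain ⟨c, hT⟩ := hL
  have hGT := G.map_distinguished _ hT
  let θ : G.obj (∏ᶜ K) ≅ ∏ᶜ (fun n => G.obj (K n)) := PreservesProduct.iso G K
  have hθ : ∀ n, θ.hom ≫ Pi.π (fun n => G.obj (K n)) n = G.map (Pi.π K n) := by
    intro n
    rw [PreservesProduct.iso_hom]
    exact piComparison_comp_π G K n
  have h1 : Pi.lift (fun n => G.map (a n)) = G.map (Pi.lift a) ≫ θ.hom := by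
    apply Pi.hom_ext
    intro n
    rw [Pi.lift_π, Category.assoc, hθ, ← G.map_comp, Pi.lift_π]
  have h2 : θ.hom ≫ (Pi.lift fun n => Pi.π (fun n => G.obj (K n)) n -
        Pi.π (fun n => G.obj (K n)) (n + 1) ≫ G.map (t n)) =
      G.map (Pi.lift fun n => Pi.π K n - Pi.π K (n + 1) ≫ t n) ≫ θ.hom := by
    apply Pi.hom_ext
    intro n
    rw [Category.assoc, Pi.lift_π, Category.assoc, hθ, ← G.map_comp, Pi.lift_π,
      Preadditive.comp_sub, ← Category.assoc, hθ, hθ, G.map_sub, G.map_comp]
  refine ⟨θ.inv ≫ G.map c ≫ (G.commShiftIso (1 : ℤ)).hom.app L, ?_⟩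
  refine isomorphic_distinguished _ hGT _ ?_
  refine Triangle.isoMk _ _ (Iso.refl _) θ.symm θ.symm ?_ ?_ ?_
  · change Pi.lift (fun n => G.map (a n)) ≫ θ.inv = 𝟙 _ ≫ G.map (Pi.lift a)
    rw [h1, Category.assoc, Iso.hom_inv_id, Category.comp_id, Category.id_comp]
  · change (Pi.lift fun n => Pi.π (fun n => G.obj (K n)) n -
        Pi.π (fun n => G.obj (K n)) (n + 1) ≫ G.map (t n)) ≫ θ.inv =
      θ.inv ≫ G.map (Pi.lift fun n => Pi.π K n - Pi.π K (n + 1) ≫ t n)
    rw [← cancel_epi θ.hom, ← Category.assoc, h2, Category.assoc, Iso.hom_inv_id,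
      Category.comp_id, Iso.hom_inv_id_assoc]
  · change (θ.inv ≫ G.map c ≫ (G.commShiftIso (1 : ℤ)).hom.app L) ≫
        (shiftFunctor T' (1 : ℤ)).map (𝟙 (G.obj L)) =
      θ.inv ≫ G.map c ≫ (G.commShiftIso (1 : ℤ)).hom.app L
    rw [CategoryTheory.Functor.map_id]
    exact Category.comp_id _

end Groth.Agent.Lib.Helper74.ModTrunc.RlimFunctor
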